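import Cfsg.Agent.Lib.TwoGrp.D8WreathData

/-!
# Kernel checks on the codes of `D8 wr 2`
-/

set_option autoImplicit false
set_option maxRecDepth 100000
set_option maxHeartbeats 4000000

namespace Cfsg.Lib.TwoGrp.D8W

theorem of_range {f : Nat → Bool} {N : Nat} (h : (List.range N).all f = true) {n : Nat}
    (hn : n < N) : f n = true :=
  List.all_eq_true.1 h n (List.mem_range.2 hn)

/-- The triples satisfying the relations. -/
def isRel (x y z : Nat) : Bool :=
  let X := mulN (mulN z x) z
  let Y := mulN (mulN z y) z
  mulN (mulN x x) (mulN x x) == 0 && mulN y y == 0 && mulN (mulN y x) y == powN x 3 &&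
    mulN z z == 0 && mulN x X == mulN X x && mulN x Y == mulN Y x && mulN y Y == mulN Y y &&
    !(ap (x, y, z) 18 == 0)

/-- The triples of the first good isomorphism and of the second. -/
def isoT (r : Trip) (e : Nat × Bool) : Trip := comp (innN e.1) (bif e.2 then r else oneT)

theorem mulN_lt_chk :
    ((List.range 128).all fun x => (List.range 128).all fun y => decide (mulN x y < 128)) = true := by
  decide +kernel

theorem pt_mul_chk :
    ((List.range 128).all fun x => (List.range 128).all fun y => (List.range 8).all fun k =>
      pt (mulN x y) k == pt x (pt y k)) = true := by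
  decide +kernel

theorem pt_basic_chk :
    ((List.range 128).all fun x => (invN x < 128 : Bool) && mulN x (invN x) == 0 &&
      mulN (invN x) x == 0 && ((List.range 8).all fun k => (pt x k < 8 : Bool)) &&
      (x == 0 || !((List.range 8).all fun k => pt x k == k)) &&
      ((List.range 8).all fun k => pt 0 k == k)) = true := by
  decide +kernel

theorem word_chk : ((List.range 128).all fun n => ap oneT n == n) = true := by decide +kernel

theorem table_chk : (table.all fun e =>
    decide (e.2.2.2.1 < 128) && decide (e.2.2.2.2 < 8) &&
      teq (comp (innN e.2.2.2.1) (e.1, e.2.1, e.2.2.1)) (rep e.2.2.2.2)) = true := by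
  decide +kernel

theorem invols_chk :
    ((List.range 128).all fun x => (mulN x x == 0) == invols.contains x) = true := by decide +kernel

theorem table_complete_chk :
    ((List.range 128).all fun x =>
      mulN x x == 0 || !(mulN (mulN x x) (mulN x x) == 0) ||
      invols.all fun y => !(mulN (mulN y x) y == powN x 3) ||
        invols.all fun z => !(isRel x y z) ||
          table.any fun e => Nat.beq e.1 x && Nat.beq e.2.1 y && Nat.beq e.2.2.1 z) = true := by
  decide +kernel

theorem cyc_chk : (teq (comp (innN 9) (comp (rep 6) (rep 6))) (rep 2) &&
    teq (comp (innN 9) (comp (rep 7) (rep 7))) (rep 2) &&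
    teq (comp (innN 9) (comp (rep 1) (rep 3))) (rep 2)) = true := by
  decide +kernel

/-- The check for a witness of rank five. -/
def witnessOk (r : Trip) (l : List (Nat × Bool)) : Bool :=
  l.length == 32 && (l.all fun e => decide (e.1 < 128)) &&
    ((l.map (isoT r)).all fun f => teq (comp f f) oneT &&
      (l.map (isoT r)).all fun g => (l.map (isoT r)).any fun h => teq h (comp f g)) &&
    (l.map (isoT r)).Nodup

theorem witness2_chk : witnessOk (rep 2) witness2 = true := by decide +kernel

theorem witness4_chk : witnessOk (rep 4) witness4 = true := by decide +kernel

theorem witness5_chk : witnessOk (rep 5) witness5 = true := by decide +kernel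

/-- The check for an isomorphism. -/
def isoOk (r : Trip) (l : List (Nat × Bool)) : Bool :=
  l.length == 128 && (l.all fun e => decide (e.1 < 128)) && (l.map (isoT r)).Nodup &&
    ((List.range 128).all fun g => [false, true].all fun b =>
      (l.map (isoT r)).any fun h => teq h (isoT r (g, b))) &&
    ((List.range 128).all fun n => [1, 4, 64].all fun g =>
      teq (comp (isoT r (l.getD n (0, false))) (isoT r (l.getD g (0, false))))
        (isoT r (l.getD (mulN n g) (0, false))))

theorem iso1_chk : isoOk (rep 1) iso1 = true := by decide +kernel

theorem iso3_chk : isoOk (rep 3) iso3 = true := by decide +kernel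

theorem center_chk :
    ((List.range 128).all fun n =>
      !(mulN n 1 == mulN 1 n && mulN n 4 == mulN 4 n && mulN n 64 == mulN 64 n) ||
        (n == 0 || n == 18)) = true := by
  decide +kernel

theorem base_chk :
    ((List.range 64).all fun x => [0, 2, 16, 18].contains (mulN x x) &&
      ((List.range 64).all fun y => decide (mulN x y < 64))) = true := by
  decide +kernel

theorem base_sub_chk :
    ([0, 2, 16, 18].all fun x => [0, 2, 16, 18].all fun y =>
      [0, 2, 16, 18].contains (mulN x y)) = true := by
  decide +kernel

theorem four_chk :
    ((List.range 128).all fun x => !(mulN x x == 0) ||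
      ((four0.contains x || four1.contains x) ||
        (List.range 128).any fun g => !(mulN x (conjN g x) == mulN (conjN g x) x))) = true := by
  decide +kernel

theorem four_sep_chk :
    ((four0.all fun x => four1.contains x ||
      (four1.all fun y => four0.contains y ||
        (List.range 128).any fun g => !(mulN y (conjN g x) == mulN (conjN g x) y)))) = true := by
  decide +kernel

theorem four_move_chk :
    (([rep 1, rep 3].all fun r =>
      ((List.range 128).all fun g =>
        (four0.any fun v => !(four0.contains (ap (comp (innN g) r) v))) &&
        (four1.any fun v => !(four1.contains (ap (comp (innN g) r) v))))) = true) := by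
  decide +kernel

end Cfsg.Lib.TwoGrp.D8W
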