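import Cfsg.Agent.Lib.TwoGrp.D8WreathCheck
import Mathlib.GroupTheory.Sylow
import Mathlib.GroupTheory.Perm.Basic
import Mathlib.Algebra.Group.End
import Mathlib.Data.Fintype.Perm
import Mathlib.Data.Fintype.Prod
import Mathlib.SetTheory.Cardinal.Finite

/-!
# A Sylow 2-subgroup of the symmetric group of degree 8, in codes
-/

set_option autoImplicit false
set_option linter.style.haveILetI false
set_option linter.unusedSectionVars false

namespace Cfsg.Lib.TwoGrp.D8W

open Equiv

theorem mulN_lt {x y : Nat} (hx : x < 128) (hy : y < 128) : mulN x y < 128 :=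
  of_decide_eq_true (of_range (of_range mulN_lt_chk hx) hy)

theorem basic {x : Nat} (hx : x < 128) :
    invN x < 128 ∧ mulN x (invN x) = 0 ∧ mulN (invN x) x = 0 ∧ (∀ k < 8, pt x k < 8) ∧
      (∀ k < 8, pt 0 k = k) ∧ ((∀ k < 8, pt x k = k) → x = 0) := by
  have h := of_range pt_basic_chk hx
  simp only [Bool.and_eq_true, Bool.or_eq_true, Bool.not_eq_true', beq_iff_eq, List.all_eq_true,
    List.mem_range, decide_eq_true_eq] at h
  obtain ⟨⟨⟨⟨⟨h1, h2⟩, h3⟩, h4⟩, h5⟩, h6⟩ := h
  refine ⟨h1, h2, h3, h4, h6, fun hk => h5.resolve_right fun hc => ?_⟩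
  have : ((List.range 8).all fun k => pt x k == k) = true :=
    List.all_eq_true.2 fun k hk' => beq_iff_eq.2 (hk k (List.mem_range.1 hk'))
  rw [this] at hc
  exact Bool.noConfusion hc

theorem pt_mul {x y k : Nat} (hx : x < 128) (hy : y < 128) (hk : k < 8) :
    pt (mulN x y) k = pt x (pt y k) :=
  beq_iff_eq.1 (of_range (of_range (of_range pt_mul_chk hx) hy) hk)

theorem invN_lt {x : Nat} (hx : x < 128) : invN x < 128 := (basic hx).1

/-- The permutation with code `n`. -/
def perm (n : Fin 128) : Perm (Fin 8) where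
  toFun k := ⟨pt n k, (basic n.2).2.2.2.1 k k.2⟩
  invFun k := ⟨pt (invN n) k, (basic (invN_lt n.2)).2.2.2.1 k k.2⟩
  left_inv k := Fin.ext (by
    show pt (invN n) (pt n k) = k
    rw [← pt_mul (invN_lt n.2) n.2 k.2, (basic n.2).2.2.1, (basic n.2).2.2.2.2.1 k k.2])
  right_inv k := Fin.ext (by
    show pt n (pt (invN n) k) = k
    rw [← pt_mul n.2 (invN_lt n.2) k.2, (basic n.2).2.1, (basic n.2).2.2.2.2.1 k k.2])

theorem perm_mul (x y : Fin 128) : perm x * perm y = perm ⟨mulN x y, mulN_lt x.2 y.2⟩ :=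
  Equiv.ext fun k => Fin.ext (pt_mul x.2 y.2 k.2).symm

theorem perm_zero : perm 0 = 1 := Equiv.ext fun k => Fin.ext ((basic (x := 0) (by omega)).2.2.2.2.1 k k.2)

theorem perm_injective : Function.Injective perm := by
  intro x y h
  have h1 : perm ⟨mulN (invN x) y, mulN_lt (invN_lt x.2) y.2⟩ = 1 := by
    rw [← perm_mul ⟨invN x, invN_lt x.2⟩ y, ← h, perm_mul]
    refine Eq.trans (congrArg perm (Fin.ext ?_)) perm_zero
    exact (basic x.2).2.2.1
  have h2 : mulN (invN (x : Nat)) y = 0 := by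
    refine (basic (mulN_lt (invN_lt x.2) y.2)).2.2.2.2.2 fun k hk => ?_
    exact congrArg Fin.val (Equiv.congr_fun h1 ⟨k, hk⟩)
  have h3 : ∀ a b : Fin 128, mulN a b = 0 → (b : Nat) = invN a := by
    have hchk : ((List.range 128).all fun a => (List.range 128).all fun b =>
        !(mulN a b == 0) || b == invN a) = true := by decide +kernel
    intro a b hab
    have := of_range (of_range hchk a.2) b.2
    simpa [hab] using this
  have hxx := h3 ⟨invN x, invN_lt x.2⟩ x (basic x.2).2.2.1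
  have hyy := h3 ⟨invN x, invN_lt x.2⟩ y h2
  exact Fin.ext (hxx.trans hyy.symm)

/-- The Sylow 2-subgroup in codes. -/
def W8 : Subgroup (Perm (Fin 8)) where
  carrier := Set.range perm
  one_mem' := ⟨0, perm_zero⟩
  mul_mem' := by
    rintro _ _ ⟨x, rfl⟩ ⟨y, rfl⟩
    exact ⟨_, (perm_mul x y).symm⟩
  inv_mem' := by
    rintro _ ⟨x, rfl⟩
    refine ⟨⟨invN x, invN_lt x.2⟩, eq_inv_of_mul_eq_one_left ?_⟩
    rw [perm_mul]
    exact (congrArg perm (Fin.ext (basic x.2).2.2.1)).trans perm_zero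

theorem card_W8 : Nat.card W8 = 2 ^ 7 := by
  show Nat.card (Set.range perm) = 2 ^ 7
  rw [Nat.card_range_of_injective perm_injective, Nat.card_eq_fintype_card, Fintype.card_fin]
  norm_num

/-- A coding of a group isomorphic to the wreath product. -/
structure Coding {P : Type*} [Group P] (c : P → Nat) : Prop where
  lt : ∀ x, c x < 128
  inj : Function.Injective c
  surj : ∀ n < 128, ∃ x, c x = n
  mul : ∀ x y, c (x * y) = mulN (c x) (c y)

theorem exists_coding {P : Type*} [Group P] (T : Sylow 2 (Perm (Fin 8)))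
    (e : P ≃* (T : Subgroup (Perm (Fin 8)))) : ∃ c : P → Nat, Coding c := by
  haveI : Fact (Nat.Prime 2) := ⟨Nat.prime_two⟩
  obtain ⟨Q, hQ⟩ := (IsPGroup.of_card card_W8).exists_le_sylow
  have hQeq : W8 = (Q : Subgroup (Perm (Fin 8))) := by
    refine Subgroup.eq_of_le_of_card_ge hQ ?_
    obtain ⟨k, hk⟩ := IsPGroup.iff_card.1 Q.isPGroup'
    have hd : 2 ^ k ∣ 40320 := by
      rw [← hk]
      refine (Subgroup.card_subgroup_dvd_card (Q : Subgroup (Perm (Fin 8)))).trans ?_
      rw [Nat.card_eq_fintype_card, Fintype.card_perm, Fintype.card_fin]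
      decide
    rw [hk, card_W8]
    refine Nat.pow_le_pow_right (by norm_num) ?_
    by_contra hlt
    have h8 : (2 : Nat) ^ 8 ∣ 40320 := (pow_dvd_pow 2 (by omega : 8 ≤ k)).trans hd
    norm_num at h8
  let E : P ≃* W8 := e.trans ((T.equiv Q).trans (MulEquiv.subgroupCongr hQeq.symm))
  let q : W8 → Fin 128 := fun w => w.2.choose
  have hq : ∀ w : W8, perm (q w) = w := fun w => w.2.choose_spec
  refine ⟨fun x => q (E x), fun x => (q (E x)).2, fun x y h => E.injective (Subtype.ext ?_),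
    fun n hn => ⟨E.symm ⟨perm ⟨n, hn⟩, ⟨_, rfl⟩⟩, ?_⟩, fun x y => ?_⟩
  · rw [← hq, ← hq]
    exact congrArg perm (Fin.ext h)
  · show ((q (E (E.symm _)) : Fin 128) : Nat) = n
    rw [E.apply_symm_apply]
    exact congrArg Fin.val (perm_injective (hq ⟨perm ⟨n, hn⟩, ⟨_, rfl⟩⟩))
  · have h : perm (q (E (x * y))) = perm ⟨mulN (q (E x)) (q (E y)), mulN_lt (q _).2 (q _).2⟩ := by
      rw [← perm_mul, hq, hq, hq, map_mul]
      rfl
    exact congrArg Fin.val (perm_injective h)

theorem eq_zero_of_idem {n : Nat} (hn : n < 128) (h : mulN n n = n) : n = 0 := by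
  have hchk : ((List.range 128).all fun n => !(mulN n n == n) || n == 0) = true := by
    decide +kernel
  simpa [h] using of_range hchk hn

section

variable {P : Type*} [Group P] {c : P → Nat} (hc : Coding c)
include hc

theorem Coding.one : c 1 = 0 :=
  eq_zero_of_idem (hc.lt 1) (by rw [← hc.mul, mul_one])

theorem Coding.inv (x : P) : c x⁻¹ = invN (c x) := by
  obtain ⟨y, hy⟩ := hc.surj _ (invN_lt (hc.lt x))
  have hxy : x * y = 1 := hc.inj (by rw [hc.mul, hy, hc.one, (basic (hc.lt x)).2.1])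
  rw [← hy, eq_inv_of_mul_eq_one_right hxy]

theorem Coding.conj (g x : P) : c (g * x * g⁻¹) = conjN (c g) (c x) := by
  rw [hc.mul, hc.mul, hc.inv]
  rfl

theorem Coding.pow (x : P) {k : Nat} (hk : k < 4) : c (x ^ k) = powN (c x) k := by
  interval_cases k
  · rw [pow_zero, hc.one]; rfl
  · rw [pow_one]; rfl
  · rw [pow_two, hc.mul]; rfl
  · rw [pow_succ, pow_two, hc.mul, hc.mul]; rfl

theorem Coding.finite : Finite P :=
  Finite.of_injective (fun x => (⟨c x, hc.lt x⟩ : Fin 128)) fun _ _ h =>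
    hc.inj (congrArg Fin.val h)

theorem Coding.card : Nat.card P = 128 := by
  rw [Nat.card_congr (Equiv.ofBijective (fun x => (⟨c x, hc.lt x⟩ : Fin 128))
    ⟨fun _ _ h => hc.inj (congrArg Fin.val h), fun n => ?_⟩), Nat.card_eq_fintype_card,
    Fintype.card_fin]
  obtain ⟨x, hx⟩ := hc.surj n n.2
  exact ⟨x, Fin.ext hx⟩

end

/-- Generators of a coded group. -/
structure Gens {P : Type*} [Group P] (c : P → Nat) (a b t : P) : Prop where
  ca : c a = 1
  cb : c b = 4
  ct : c t = 64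

section

variable {P : Type*} [Group P] {c : P → Nat} (hc : Coding c) {a b t : P} (hg : Gens c a b t)

/-- The images of the generators under an automorphism. -/
def trip (c : P → Nat) (a b t : P) (φ : MulAut P) : Trip := (c (φ a), c (φ b), c (φ t))

include hc hg

theorem code_apply (φ : MulAut P) (x : P) : c (φ x) = ap (trip c a b t φ) (c x) := by
  set n := c x with hn
  have key : ∀ ψ : MulAut P, c (ψ (a ^ (n % 4) * b ^ (n / 4 % 2) * t * a ^ (n / 8 % 4) *
      b ^ (n / 32 % 2) * t * t ^ (n / 64 % 2))) = ap (trip c a b t ψ) n := by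
    intro ψ
    simp only [map_mul, map_pow, hc.mul]
    rw [hc.pow _ (by omega : n % 4 < 4), hc.pow _ (by omega : n / 4 % 2 < 4),
      hc.pow _ (by omega : n / 8 % 4 < 4), hc.pow _ (by omega : n / 32 % 2 < 4),
      hc.pow _ (by omega : n / 64 % 2 < 4)]
    rfl
  have hw : x = a ^ (n % 4) * b ^ (n / 4 % 2) * t * a ^ (n / 8 % 4) *
      b ^ (n / 32 % 2) * t * t ^ (n / 64 % 2) := by
    refine hc.inj ((?_ : c x = ap (trip c a b t 1) n).trans (key 1).symm)
    rw [trip, MulAut.one_apply, MulAut.one_apply, MulAut.one_apply, hg.ca, hg.cb, hg.ct]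
    exact (beq_iff_eq.1 (of_range word_chk (hc.lt x))).symm
  rw [← key φ, ← hw]

theorem trip_mul (φ ψ : MulAut P) :
    trip c a b t (φ * ψ) = comp (trip c a b t φ) (trip c a b t ψ) := by
  unfold trip comp
  refine Prod.ext ?_ (Prod.ext ?_ ?_) <;>
    exact code_apply hc hg φ _

theorem trip_one : trip c a b t 1 = oneT := by
  simp [trip, oneT, hg.ca, hg.cb, hg.ct]

theorem trip_injective {φ ψ : MulAut P} (h : trip c a b t φ = trip c a b t ψ) : φ = ψ :=
  MulEquiv.ext fun x => hc.inj (by rw [code_apply hc hg φ, code_apply hc hg ψ, h])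

theorem trip_conj (g : P) : trip c a b t (MulAut.conj g) = innN (c g) := by
  unfold trip innN
  rw [MulAut.conj_apply, MulAut.conj_apply, MulAut.conj_apply, hc.conj, hc.conj, hc.conj, hg.ca,
    hg.cb, hg.ct]

theorem isRel_trip (φ : MulAut P) :
    mulN (c (φ a)) (c (φ a)) ≠ 0 ∧ isRel (c (φ a)) (c (φ b)) (c (φ t)) = true := by
  have h2 : ∀ u v : P, c u = c v → c (φ u) = c (φ v) := fun u v h => by rw [hc.inj h]
  refine ⟨?_, ?_⟩
  · rw [← hc.mul, ← map_mul, ← hc.one, ← map_one φ]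
    intro h
    have h' := φ.injective (hc.inj h)
    have := congrArg c h'
    rw [hc.mul, hg.ca, hc.one] at this
    revert this
    decide
  · have e1 := h2 (a * a * (a * a)) 1 (by simp only [hc.mul, hg.ca, hc.one]; decide)
    have e2 := h2 (b * b) 1 (by simp only [hc.mul, hg.cb, hc.one]; decide)
    have e3 := h2 (b * a * b) (a ^ 3)
      (by rw [hc.pow _ (by omega : 3 < 4)]; simp only [hc.mul, hg.ca, hg.cb]; decide)
    have e4 := h2 (t * t) 1 (by simp only [hc.mul, hg.ct, hc.one]; decide)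
    have e5 := h2 (a * (t * a * t)) (t * a * t * a) (by simp only [hc.mul, hg.ca, hg.ct]; decide)
    have e6 := h2 (a * (t * b * t)) (t * b * t * a)
      (by simp only [hc.mul, hg.ca, hg.cb, hg.ct]; decide)
    have e7 := h2 (b * (t * b * t)) (t * b * t * b) (by simp only [hc.mul, hg.cb, hg.ct]; decide)
    simp only [map_mul, map_one, hc.mul, hc.one] at e1 e2 e4 e5 e6 e7
    simp only [map_mul, map_pow, hc.mul] at e3
    rw [hc.pow _ (by omega : 3 < 4)] at e3
    have e8 : ap (c (φ a), c (φ b), c (φ t)) 18 ≠ 0 := by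
      obtain ⟨z, hz⟩ := hc.surj 18 (by omega)
      intro h
      have h' : c (φ z) = c (φ 1) := by
        rw [code_apply hc hg φ z, map_one, hc.one, hz]
        exact h
      have := congrArg c (φ.injective (hc.inj h'))
      rw [hz, hc.one] at this
      omega
    simp only [isRel, Bool.and_eq_true, Bool.not_eq_true', beq_iff_eq, beq_eq_false_iff_ne]
    exact ⟨⟨⟨⟨⟨⟨⟨e1, e2⟩, e3⟩, e4⟩, e5⟩, e6⟩, e7⟩, e8⟩

omit hc hg in
theorem teq_iff (f g : Trip) : teq f g = true ↔ f = g := by
  simp [teq, Prod.ext_iff, and_assoc]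

theorem exists_class (φ : MulAut P) :
    ∃ g i, g < 128 ∧ i < 8 ∧ comp (innN g) (trip c a b t φ) = rep i := by
  obtain ⟨hx2, hrel⟩ := isRel_trip hc hg φ
  have hr := hrel
  simp only [isRel, Bool.and_eq_true, Bool.not_eq_true', beq_iff_eq] at hr
  obtain ⟨⟨⟨⟨⟨⟨⟨h1, h2⟩, h3⟩, h4⟩, -⟩, -⟩, -⟩, -⟩ := hr
  have hinv : ∀ y, y < 128 → mulN y y = 0 → y ∈ invols := fun y hy h => by
    have := of_range invols_chk hy
    simpa [h] using this
  have H := of_range table_complete_chk (hc.lt (φ a))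
  simp only [Bool.or_eq_true, Bool.not_eq_true', beq_iff_eq, beq_eq_false_iff_ne, List.all_eq_true] at H
  rcases H with (H | H) | H
  · exact absurd H hx2
  · exact absurd h1 H
  rcases H _ (hinv _ (hc.lt _) h2) with H | H
  · exact absurd h3 H
  rcases H _ (hinv _ (hc.lt _) h4) with H | H
  · rw [hrel] at H
    exact Bool.noConfusion H
  obtain ⟨e, he, hk⟩ := List.any_eq_true.1 H
  simp only [Bool.and_eq_true, Nat.beq_eq] at hk
  obtain ⟨⟨k1, k2⟩, k3⟩ := hk
  have ht := List.all_eq_true.1 table_chk e he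
  simp only [Bool.and_eq_true, decide_eq_true_eq, teq_iff] at ht
  refine ⟨_, _, ht.1.1, ht.1.2, ?_⟩
  rw [← ht.2, k1, k2, k3]
  rfl

end

end Cfsg.Lib.TwoGrp.D8W
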