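/-!
# The wreath product `D8 wr 2` on numerical codes

The element `(a ^ i * b ^ j, a ^ k * b ^ l) * t ^ e` has code `i + 4 j + 8 k + 32 l + 64 e`.
An automorphism is recorded by the codes of the images of `a`, `b` and `t` (codes 1, 4, 64).
-/

set_option autoImplicit false

namespace Cfsg.Lib.TwoGrp.D8W

/-- Product in the dihedral group of order eight. -/
def dm (x y : Nat) : Nat :=
  (x % 4 + y % 4 * (1 + 2 * (x / 4))) % 4 + 4 * ((x / 4 + y / 4) % 2)

/-- Product in the wreath product. -/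
def mulN (x y : Nat) : Nat :=
  dm (x % 8) (y / (1 + 7 * (x / 64)) % 8) + 8 * dm (x / 8 % 8) (y / (8 - 7 * (x / 64)) % 8) +
    64 * ((x / 64 + y / 64) % 2)

/-- The action of a component on its four points. -/
def ptc (d k : Nat) : Nat := (k % 4 * (1 + 2 * (d / 4)) + d % 4) % 4 + 4 * (k / 4)

/-- The action on eight points. -/
def pt (n k : Nat) : Nat :=
  ptc (n / (1 + 7 * ((k + 4 * (n / 64)) % 8 / 4)) % 8) ((k + 4 * (n / 64)) % 8)

/-- Powers with exponent less than four. -/
def powN (x k : Nat) : Nat :=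
  bif Nat.beq k 0 then 0 else bif Nat.beq k 1 then x else
    bif Nat.beq k 2 then mulN x x else mulN (mulN x x) x

/-- The inverse (the exponent is eight). -/
def invN (x : Nat) : Nat :=
  let y := mulN x x
  mulN (mulN (mulN y y) y) x

/-- The images of the three generators. -/
abbrev Trip := Nat × Nat × Nat

/-- The identity automorphism. -/
def oneT : Trip := (1, 4, 64)

/-- The element with code `n`, evaluated at the images of the generators. -/
def ap (f : Trip) (n : Nat) : Nat :=
  mulN (mulN (mulN (mulN (mulN (mulN (powN f.1 (n % 4)) (powN f.2.1 (n / 4 % 2))) f.2.2)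
    (powN f.1 (n / 8 % 4))) (powN f.2.1 (n / 32 % 2))) f.2.2) (powN f.2.2 (n / 64 % 2))

/-- Composition. -/
def comp (f g : Trip) : Trip := (ap f g.1, ap f g.2.1, ap f g.2.2)

/-- Conjugation. -/
def conjN (g x : Nat) : Nat := mulN (mulN g x) (invN g)

/-- Inner automorphisms. -/
def innN (g : Nat) : Trip := (conjN g 1, conjN g 4, conjN g 64)

/-- Equality of triples. -/
def teq (f g : Trip) : Bool := f.1 == g.1 && f.2.1 == g.2.1 && f.2.2 == g.2.2

/-- The representatives of the outer automorphisms. -/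
def rep : Nat → Trip
  | 1 => (1, 5, 64)
  | 2 => (1, 20, 64)
  | 3 => (1, 21, 64)
  | 4 => (10, 32, 64)
  | 5 => (10, 34, 64)
  | 6 => (10, 40, 64)
  | 7 => (10, 42, 64)
  | _ => oneT

/-- All automorphisms: the triple, an element, the class. -/
def table : List (Nat × Nat × Nat × Nat × Nat) :=
  [
    (1, 4, 64, 0, 0), (3, 4, 64, 36, 0), (17, 4, 64, 64, 4), (19, 4, 64, 100, 4),
    (1, 5, 64, 0, 1), (3, 5, 64, 45, 1), (17, 5, 64, 64, 6), (19, 5, 64, 109, 6),
    (1, 6, 64, 27, 0), (3, 6, 64, 45, 0), (17, 6, 64, 91, 4), (19, 6, 64, 109, 4),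
    (1, 7, 64, 27, 1), (3, 7, 64, 36, 1), (17, 7, 64, 91, 6), (19, 7, 64, 100, 6),
    (1, 20, 64, 0, 2), (3, 20, 64, 36, 2), (17, 20, 64, 64, 5), (19, 20, 64, 100, 5),
    (1, 21, 64, 0, 3), (3, 21, 64, 45, 3), (17, 21, 64, 64, 7), (19, 21, 64, 109, 7),
    (1, 22, 64, 27, 2), (3, 22, 64, 45, 2), (17, 22, 64, 91, 5), (19, 22, 64, 109, 5),
    (1, 23, 64, 27, 3), (3, 23, 64, 36, 3), (17, 23, 64, 91, 7), (19, 23, 64, 100, 7),
    (8, 32, 64, 64, 0), (10, 32, 64, 0, 4), (24, 32, 64, 100, 0), (26, 32, 64, 36, 4),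
    (8, 34, 64, 64, 2), (10, 34, 64, 0, 5), (24, 34, 64, 100, 2), (26, 34, 64, 36, 5),
    (8, 40, 64, 64, 1), (10, 40, 64, 0, 6), (24, 40, 64, 109, 1), (26, 40, 64, 45, 6),
    (8, 42, 64, 64, 3), (10, 42, 64, 0, 7), (24, 42, 64, 109, 3), (26, 42, 64, 45, 7),
    (8, 48, 64, 91, 0), (10, 48, 64, 27, 4), (24, 48, 64, 109, 0), (26, 48, 64, 45, 4),
    (8, 50, 64, 91, 2), (10, 50, 64, 27, 5), (24, 50, 64, 109, 2), (26, 50, 64, 45, 5),
    (8, 56, 64, 91, 1), (10, 56, 64, 27, 6), (24, 56, 64, 100, 1), (26, 56, 64, 36, 6),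
    (8, 58, 64, 91, 3), (10, 58, 64, 27, 7), (24, 58, 64, 100, 3), (26, 58, 64, 36, 7),
    (1, 4, 75, 24, 0), (3, 4, 75, 44, 0), (17, 4, 75, 67, 4), (19, 4, 75, 101, 4),
    (1, 5, 75, 24, 1), (3, 5, 75, 39, 1), (17, 5, 75, 67, 6), (19, 5, 75, 124, 6),
    (1, 6, 75, 1, 0), (3, 6, 75, 39, 0), (17, 6, 75, 72, 4), (19, 6, 75, 124, 4),
    (1, 7, 75, 1, 1), (3, 7, 75, 44, 1), (17, 7, 75, 72, 6), (19, 7, 75, 101, 6),
    (1, 20, 75, 24, 2), (3, 20, 75, 44, 2), (17, 20, 75, 67, 5), (19, 20, 75, 101, 5),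
    (1, 21, 75, 24, 3), (3, 21, 75, 39, 3), (17, 21, 75, 67, 7), (19, 21, 75, 124, 7),
    (1, 22, 75, 1, 2), (3, 22, 75, 39, 2), (17, 22, 75, 72, 5), (19, 22, 75, 124, 5),
    (1, 23, 75, 1, 3), (3, 23, 75, 44, 3), (17, 23, 75, 72, 7), (19, 23, 75, 101, 7),
    (8, 32, 75, 72, 0), (10, 32, 75, 1, 4), (24, 32, 75, 124, 0), (26, 32, 75, 39, 4),
    (8, 34, 75, 72, 2), (10, 34, 75, 1, 5), (24, 34, 75, 124, 2), (26, 34, 75, 39, 5),
    (8, 40, 75, 72, 1), (10, 40, 75, 1, 6), (24, 40, 75, 101, 1), (26, 40, 75, 44, 6),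
    (8, 42, 75, 72, 3), (10, 42, 75, 1, 7), (24, 42, 75, 101, 3), (26, 42, 75, 44, 7),
    (8, 48, 75, 67, 0), (10, 48, 75, 24, 4), (24, 48, 75, 101, 0), (26, 48, 75, 44, 4),
    (8, 50, 75, 67, 2), (10, 50, 75, 24, 5), (24, 50, 75, 101, 2), (26, 50, 75, 44, 5),
    (8, 56, 75, 67, 1), (10, 56, 75, 24, 6), (24, 56, 75, 124, 1), (26, 56, 75, 39, 6),
    (8, 58, 75, 67, 3), (10, 58, 75, 24, 7), (24, 58, 75, 124, 3), (26, 58, 75, 39, 7),
    (1, 4, 82, 2, 0), (3, 4, 82, 38, 0), (17, 4, 82, 80, 4), (19, 4, 82, 116, 4),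
    (1, 5, 82, 2, 1), (3, 5, 82, 47, 1), (17, 5, 82, 80, 6), (19, 5, 82, 125, 6),
    (1, 6, 82, 25, 0), (3, 6, 82, 47, 0), (17, 6, 82, 75, 4), (19, 6, 82, 125, 4),
    (1, 7, 82, 25, 1), (3, 7, 82, 38, 1), (17, 7, 82, 75, 6), (19, 7, 82, 116, 6),
    (1, 20, 82, 2, 2), (3, 20, 82, 38, 2), (17, 20, 82, 80, 5), (19, 20, 82, 116, 5),
    (1, 21, 82, 2, 3), (3, 21, 82, 47, 3), (17, 21, 82, 80, 7), (19, 21, 82, 125, 7),
    (1, 22, 82, 25, 2), (3, 22, 82, 47, 2), (17, 22, 82, 75, 5), (19, 22, 82, 125, 5),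
    (1, 23, 82, 25, 3), (3, 23, 82, 38, 3), (17, 23, 82, 75, 7), (19, 23, 82, 116, 7),
    (8, 32, 82, 80, 0), (10, 32, 82, 2, 4), (24, 32, 82, 116, 0), (26, 32, 82, 38, 4),
    (8, 34, 82, 80, 2), (10, 34, 82, 2, 5), (24, 34, 82, 116, 2), (26, 34, 82, 38, 5),
    (8, 40, 82, 80, 1), (10, 40, 82, 2, 6), (24, 40, 82, 125, 1), (26, 40, 82, 47, 6),
    (8, 42, 82, 80, 3), (10, 42, 82, 2, 7), (24, 42, 82, 125, 3), (26, 42, 82, 47, 7),
    (8, 48, 82, 75, 0), (10, 48, 82, 25, 4), (24, 48, 82, 125, 0), (26, 48, 82, 47, 4),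
    (8, 50, 82, 75, 2), (10, 50, 82, 25, 5), (24, 50, 82, 125, 2), (26, 50, 82, 47, 5),
    (8, 56, 82, 75, 1), (10, 56, 82, 25, 6), (24, 56, 82, 116, 1), (26, 56, 82, 38, 6),
    (8, 58, 82, 75, 3), (10, 58, 82, 25, 7), (24, 58, 82, 116, 3), (26, 58, 82, 38, 7),
    (1, 4, 89, 26, 0), (3, 4, 89, 46, 0), (17, 4, 89, 83, 4), (19, 4, 89, 117, 4),
    (1, 5, 89, 26, 1), (3, 5, 89, 37, 1), (17, 5, 89, 83, 6), (19, 5, 89, 108, 6),
    (1, 6, 89, 3, 0), (3, 6, 89, 37, 0), (17, 6, 89, 88, 4), (19, 6, 89, 108, 4),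
    (1, 7, 89, 3, 1), (3, 7, 89, 46, 1), (17, 7, 89, 88, 6), (19, 7, 89, 117, 6),
    (1, 20, 89, 26, 2), (3, 20, 89, 46, 2), (17, 20, 89, 83, 5), (19, 20, 89, 117, 5),
    (1, 21, 89, 26, 3), (3, 21, 89, 37, 3), (17, 21, 89, 83, 7), (19, 21, 89, 108, 7),
    (1, 22, 89, 3, 2), (3, 22, 89, 37, 2), (17, 22, 89, 88, 5), (19, 22, 89, 108, 5),
    (1, 23, 89, 3, 3), (3, 23, 89, 46, 3), (17, 23, 89, 88, 7), (19, 23, 89, 117, 7),
    (8, 32, 89, 88, 0), (10, 32, 89, 3, 4), (24, 32, 89, 108, 0), (26, 32, 89, 37, 4),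
    (8, 34, 89, 88, 2), (10, 34, 89, 3, 5), (24, 34, 89, 108, 2), (26, 34, 89, 37, 5),
    (8, 40, 89, 88, 1), (10, 40, 89, 3, 6), (24, 40, 89, 117, 1), (26, 40, 89, 46, 6),
    (8, 42, 89, 88, 3), (10, 42, 89, 3, 7), (24, 42, 89, 117, 3), (26, 42, 89, 46, 7),
    (8, 48, 89, 83, 0), (10, 48, 89, 26, 4), (24, 48, 89, 117, 0), (26, 48, 89, 46, 4),
    (8, 50, 89, 83, 2), (10, 50, 89, 26, 5), (24, 50, 89, 117, 2), (26, 50, 89, 46, 5),
    (8, 56, 89, 83, 1), (10, 56, 89, 26, 6), (24, 56, 89, 108, 1), (26, 56, 89, 37, 6),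
    (8, 58, 89, 83, 3), (10, 58, 89, 26, 7), (24, 58, 89, 108, 3), (26, 58, 89, 37, 7),
    (1, 4, 100, 32, 0), (3, 4, 100, 4, 0), (17, 4, 100, 68, 4), (19, 4, 100, 96, 4),
    (1, 5, 100, 32, 1), (3, 5, 100, 31, 1), (17, 5, 100, 68, 6), (19, 5, 100, 123, 6),
    (1, 6, 100, 41, 0), (3, 6, 100, 31, 0), (17, 6, 100, 77, 4), (19, 6, 100, 123, 4),
    (1, 7, 100, 41, 1), (3, 7, 100, 4, 1), (17, 7, 100, 77, 6), (19, 7, 100, 96, 6),
    (1, 20, 100, 32, 2), (3, 20, 100, 4, 2), (17, 20, 100, 68, 5), (19, 20, 100, 96, 5),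
    (1, 21, 100, 32, 3), (3, 21, 100, 31, 3), (17, 21, 100, 68, 7), (19, 21, 100, 123, 7),
    (1, 22, 100, 41, 2), (3, 22, 100, 31, 2), (17, 22, 100, 77, 5), (19, 22, 100, 123, 5),
    (1, 23, 100, 41, 3), (3, 23, 100, 4, 3), (17, 23, 100, 77, 7), (19, 23, 100, 96, 7),
    (8, 32, 100, 96, 0), (10, 32, 100, 4, 4), (24, 32, 100, 68, 0), (26, 32, 100, 32, 4),
    (8, 34, 100, 96, 2), (10, 34, 100, 4, 5), (24, 34, 100, 68, 2), (26, 34, 100, 32, 5),
    (8, 40, 100, 96, 1), (10, 40, 100, 4, 6), (24, 40, 100, 77, 1), (26, 40, 100, 41, 6),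
    (8, 42, 100, 96, 3), (10, 42, 100, 4, 7), (24, 42, 100, 77, 3), (26, 42, 100, 41, 7),
    (8, 48, 100, 123, 0), (10, 48, 100, 31, 4), (24, 48, 100, 77, 0), (26, 48, 100, 41, 4),
    (8, 50, 100, 123, 2), (10, 50, 100, 31, 5), (24, 50, 100, 77, 2), (26, 50, 100, 41, 5),
    (8, 56, 100, 123, 1), (10, 56, 100, 31, 6), (24, 56, 100, 68, 1), (26, 56, 100, 32, 6),
    (8, 58, 100, 123, 3), (10, 58, 100, 31, 7), (24, 58, 100, 68, 3), (26, 58, 100, 32, 7),
    (1, 4, 109, 40, 0), (3, 4, 109, 28, 0), (17, 4, 109, 69, 4), (19, 4, 109, 99, 4),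
    (1, 5, 109, 40, 1), (3, 5, 109, 5, 1), (17, 5, 109, 69, 6), (19, 5, 109, 104, 6),
    (1, 6, 109, 35, 0), (3, 6, 109, 5, 0), (17, 6, 109, 92, 4), (19, 6, 109, 104, 4),
    (1, 7, 109, 35, 1), (3, 7, 109, 28, 1), (17, 7, 109, 92, 6), (19, 7, 109, 99, 6),
    (1, 20, 109, 40, 2), (3, 20, 109, 28, 2), (17, 20, 109, 69, 5), (19, 20, 109, 99, 5),
    (1, 21, 109, 40, 3), (3, 21, 109, 5, 3), (17, 21, 109, 69, 7), (19, 21, 109, 104, 7),
    (1, 22, 109, 35, 2), (3, 22, 109, 5, 2), (17, 22, 109, 92, 5), (19, 22, 109, 104, 5),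
    (1, 23, 109, 35, 3), (3, 23, 109, 28, 3), (17, 23, 109, 92, 7), (19, 23, 109, 99, 7),
    (8, 32, 109, 104, 0), (10, 32, 109, 5, 4), (24, 32, 109, 92, 0), (26, 32, 109, 35, 4),
    (8, 34, 109, 104, 2), (10, 34, 109, 5, 5), (24, 34, 109, 92, 2), (26, 34, 109, 35, 5),
    (8, 40, 109, 104, 1), (10, 40, 109, 5, 6), (24, 40, 109, 69, 1), (26, 40, 109, 40, 6),
    (8, 42, 109, 104, 3), (10, 42, 109, 5, 7), (24, 42, 109, 69, 3), (26, 42, 109, 40, 7),
    (8, 48, 109, 99, 0), (10, 48, 109, 28, 4), (24, 48, 109, 69, 0), (26, 48, 109, 40, 4),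
    (8, 50, 109, 99, 2), (10, 50, 109, 28, 5), (24, 50, 109, 69, 2), (26, 50, 109, 40, 5),
    (8, 56, 109, 99, 1), (10, 56, 109, 28, 6), (24, 56, 109, 92, 1), (26, 56, 109, 35, 6),
    (8, 58, 109, 99, 3), (10, 58, 109, 28, 7), (24, 58, 109, 92, 3), (26, 58, 109, 35, 7),
    (1, 4, 118, 34, 0), (3, 4, 118, 6, 0), (17, 4, 118, 84, 4), (19, 4, 118, 112, 4),
    (1, 5, 118, 34, 1), (3, 5, 118, 29, 1), (17, 5, 118, 84, 6), (19, 5, 118, 107, 6),
    (1, 6, 118, 43, 0), (3, 6, 118, 29, 0), (17, 6, 118, 93, 4), (19, 6, 118, 107, 4),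
    (1, 7, 118, 43, 1), (3, 7, 118, 6, 1), (17, 7, 118, 93, 6), (19, 7, 118, 112, 6),
    (1, 20, 118, 34, 2), (3, 20, 118, 6, 2), (17, 20, 118, 84, 5), (19, 20, 118, 112, 5),
    (1, 21, 118, 34, 3), (3, 21, 118, 29, 3), (17, 21, 118, 84, 7), (19, 21, 118, 107, 7),
    (1, 22, 118, 43, 2), (3, 22, 118, 29, 2), (17, 22, 118, 93, 5), (19, 22, 118, 107, 5),
    (1, 23, 118, 43, 3), (3, 23, 118, 6, 3), (17, 23, 118, 93, 7), (19, 23, 118, 112, 7),
    (8, 32, 118, 112, 0), (10, 32, 118, 6, 4), (24, 32, 118, 84, 0), (26, 32, 118, 34, 4),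
    (8, 34, 118, 112, 2), (10, 34, 118, 6, 5), (24, 34, 118, 84, 2), (26, 34, 118, 34, 5),
    (8, 40, 118, 112, 1), (10, 40, 118, 6, 6), (24, 40, 118, 93, 1), (26, 40, 118, 43, 6),
    (8, 42, 118, 112, 3), (10, 42, 118, 6, 7), (24, 42, 118, 93, 3), (26, 42, 118, 43, 7),
    (8, 48, 118, 107, 0), (10, 48, 118, 29, 4), (24, 48, 118, 93, 0), (26, 48, 118, 43, 4),
    (8, 50, 118, 107, 2), (10, 50, 118, 29, 5), (24, 50, 118, 93, 2), (26, 50, 118, 43, 5),
    (8, 56, 118, 107, 1), (10, 56, 118, 29, 6), (24, 56, 118, 84, 1), (26, 56, 118, 34, 6),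
    (8, 58, 118, 107, 3), (10, 58, 118, 29, 7), (24, 58, 118, 84, 3), (26, 58, 118, 34, 7),
    (1, 4, 127, 42, 0), (3, 4, 127, 30, 0), (17, 4, 127, 85, 4), (19, 4, 127, 115, 4),
    (1, 5, 127, 42, 1), (3, 5, 127, 7, 1), (17, 5, 127, 85, 6), (19, 5, 127, 120, 6),
    (1, 6, 127, 33, 0), (3, 6, 127, 7, 0), (17, 6, 127, 76, 4), (19, 6, 127, 120, 4),
    (1, 7, 127, 33, 1), (3, 7, 127, 30, 1), (17, 7, 127, 76, 6), (19, 7, 127, 115, 6),
    (1, 20, 127, 42, 2), (3, 20, 127, 30, 2), (17, 20, 127, 85, 5), (19, 20, 127, 115, 5),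
    (1, 21, 127, 42, 3), (3, 21, 127, 7, 3), (17, 21, 127, 85, 7), (19, 21, 127, 120, 7),
    (1, 22, 127, 33, 2), (3, 22, 127, 7, 2), (17, 22, 127, 76, 5), (19, 22, 127, 120, 5),
    (1, 23, 127, 33, 3), (3, 23, 127, 30, 3), (17, 23, 127, 76, 7), (19, 23, 127, 115, 7),
    (8, 32, 127, 120, 0), (10, 32, 127, 7, 4), (24, 32, 127, 76, 0), (26, 32, 127, 33, 4),
    (8, 34, 127, 120, 2), (10, 34, 127, 7, 5), (24, 34, 127, 76, 2), (26, 34, 127, 33, 5),
    (8, 40, 127, 120, 1), (10, 40, 127, 7, 6), (24, 40, 127, 85, 1), (26, 40, 127, 42, 6),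
    (8, 42, 127, 120, 3), (10, 42, 127, 7, 7), (24, 42, 127, 85, 3), (26, 42, 127, 42, 7),
    (8, 48, 127, 115, 0), (10, 48, 127, 30, 4), (24, 48, 127, 85, 0), (26, 48, 127, 42, 4),
    (8, 50, 127, 115, 2), (10, 50, 127, 30, 5), (24, 50, 127, 85, 2), (26, 50, 127, 42, 5),
    (8, 56, 127, 115, 1), (10, 56, 127, 30, 6), (24, 56, 127, 76, 1), (26, 56, 127, 33, 6),
    (8, 58, 127, 115, 3), (10, 58, 127, 30, 7), (24, 58, 127, 76, 3), (26, 58, 127, 33, 7)]

/-- An elementary abelian group of order 32 above class 2. -/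
def witness2 : List (Nat × Bool) :=
  [
    (0, false), (2, false), (9, false), (11, false), (0, true), (2, true), (9, true), (11, true),
    (36, false), (38, false), (45, false), (47, false), (36, true), (38, true), (45, true), (47, true),
    (64, false), (66, false), (64, true), (66, true), (73, false), (75, false), (73, true), (75, true),
    (100, false), (102, false), (100, true), (102, true), (109, false), (111, false), (109, true), (111, true)]

/-- An elementary abelian group of order 32 above class 4. -/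
def witness4 : List (Nat × Bool) :=
  [
    (0, false), (2, false), (9, false), (11, false), (36, false), (38, false), (45, false), (47, false),
    (64, false), (66, false), (73, false), (75, false), (0, true), (2, true), (9, true), (11, true),
    (64, true), (66, true), (73, true), (75, true), (100, true), (102, true), (109, true), (111, true),
    (100, false), (102, false), (109, false), (111, false), (36, true), (38, true), (45, true), (47, true)]

/-- An elementary abelian group of order 32 above class 5. -/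
def witness5 : List (Nat × Bool) :=
  [
    (0, false), (2, false), (9, false), (11, false), (36, false), (38, false), (45, false), (47, false),
    (64, false), (66, false), (73, false), (75, false), (0, true), (2, true), (9, true), (11, true),
    (64, true), (66, true), (73, true), (75, true), (100, true), (102, true), (109, true), (111, true),
    (100, false), (102, false), (109, false), (111, false), (36, true), (38, true), (45, true), (47, true)]

/-- The isomorphism onto the automorphisms of class 1. -/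
def iso1 : List (Nat × Bool) :=
  [
    (0, false), (0, true), (9, false), (9, true), (100, false), (109, true), (109, false), (100, true),
    (10, true), (1, false), (1, true), (10, false), (101, true), (101, false), (110, true), (110, false),
    (11, false), (11, true), (2, false), (2, true), (111, false), (102, true), (102, false), (111, true),
    (3, true), (8, false), (8, true), (3, false), (108, true), (108, false), (103, true), (103, false),
    (64, false), (64, true), (73, false), (73, true), (36, false), (45, true), (45, false), (36, true),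
    (74, true), (65, false), (65, true), (74, false), (37, true), (37, false), (46, true), (46, false),
    (75, false), (75, true), (66, false), (66, true), (47, false), (38, true), (38, false), (47, true),
    (67, true), (72, false), (72, true), (67, false), (44, true), (44, false), (39, true), (39, false),
    (32, false), (40, true), (41, false), (35, true), (96, false), (104, true), (105, false), (99, true),
    (32, true), (33, false), (41, true), (42, false), (96, true), (97, false), (105, true), (106, false),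
    (43, false), (33, true), (34, false), (42, true), (107, false), (97, true), (98, false), (106, true),
    (43, true), (40, false), (34, true), (35, false), (107, true), (104, false), (98, true), (99, false),
    (68, false), (69, true), (77, false), (78, true), (4, false), (5, true), (13, false), (14, true),
    (79, true), (69, false), (70, true), (78, false), (15, true), (5, false), (6, true), (14, false),
    (79, false), (76, true), (70, false), (71, true), (15, false), (12, true), (6, false), (7, true),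
    (68, true), (76, false), (77, true), (71, false), (4, true), (12, false), (13, true), (7, false)]

/-- The isomorphism onto the automorphisms of class 3. -/
def iso3 : List (Nat × Bool) :=
  [
    (0, false), (0, true), (9, false), (9, true), (100, false), (109, true), (109, false), (100, true),
    (8, true), (3, false), (3, true), (8, false), (103, true), (103, false), (108, true), (108, false),
    (11, false), (11, true), (2, false), (2, true), (111, false), (102, true), (102, false), (111, true),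
    (1, true), (10, false), (10, true), (1, false), (110, true), (110, false), (101, true), (101, false),
    (64, false), (64, true), (73, false), (73, true), (36, false), (45, true), (45, false), (36, true),
    (72, true), (67, false), (67, true), (72, false), (39, true), (39, false), (44, true), (44, false),
    (75, false), (75, true), (66, false), (66, true), (47, false), (38, true), (38, false), (47, true),
    (65, true), (74, false), (74, true), (65, false), (46, true), (46, false), (37, true), (37, false),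
    (32, false), (42, true), (41, false), (33, true), (96, false), (106, true), (105, false), (97, true),
    (32, true), (35, false), (41, true), (40, false), (96, true), (99, false), (105, true), (104, false),
    (43, false), (35, true), (34, false), (40, true), (107, false), (99, true), (98, false), (104, true),
    (43, true), (42, false), (34, true), (33, false), (107, true), (106, false), (98, true), (97, false),
    (68, false), (71, true), (77, false), (76, true), (4, false), (7, true), (13, false), (12, true),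
    (79, true), (71, false), (70, true), (76, false), (15, true), (7, false), (6, true), (12, false),
    (79, false), (78, true), (70, false), (69, true), (15, false), (14, true), (6, false), (5, true),
    (68, true), (78, false), (77, true), (69, false), (4, true), (14, false), (13, true), (5, false)]

/-- A normal elementary abelian subgroup of order 16. -/
def four0 : List Nat :=
  [
    0, 2, 4, 6, 16, 18, 20, 22, 32, 34, 36, 38, 48, 50, 52, 54]

/-- A normal elementary abelian subgroup of order 16. -/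
def four1 : List Nat :=
  [
    0, 2, 5, 7, 16, 18, 21, 23, 40, 42, 45, 47, 56, 58, 61, 63]

/-- The codes of the elements squaring to one. -/
def invols : List Nat :=
  [
    0, 2, 4, 5, 6, 7, 16, 18, 20, 21, 22, 23, 32, 34, 36, 37,
    38, 39, 40, 42, 44, 45, 46, 47, 48, 50, 52, 53, 54, 55, 56, 58,
    60, 61, 62, 63, 64, 75, 82, 89, 100, 109, 118, 127]

end Cfsg.Lib.TwoGrp.D8W
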