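import Cfsg.Agent.Lib.TwoGrp.D8WreathCoding
import Cfsg.Prelude.Def_CaseTheorems
import Cfsg.Prelude.Def_Transfer
import Mathlib.GroupTheory.Nilpotent
import Mathlib.GroupTheory.QuotientGroup.Basic
import Mathlib.GroupTheory.Index

/-!
# Subgroups isomorphic to `D8 wr 2` in groups of sectional 2-rank at most four
-/

set_option autoImplicit false
set_option linter.style.haveILetI false
set_option linter.unusedSectionVars false

namespace Cfsg.Lib.TwoGrp.D8W

open Subgroup

/-- An elementary abelian section of order 32 contradicts sectional rank four. -/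
theorem rank_five {G : Type*} [Group G] (h : Cfsg.SectionalPRankLE 2 4 G) {H K : Subgroup G}
    (hKH : K ≤ H) (hsq : ∀ x ∈ H, x * x ∈ K) (hidx : K.relIndex H = 32) : False := by
  have hsq' : ∀ x : H, x * x ∈ K.subgroupOf H := fun x => hsq x x.2
  haveI hn : (K.subgroupOf H).Normal := ⟨fun k hk x => by
    have h1 : x * k * x⁻¹ = (x * k) * (x * k) * k⁻¹ * (x * x)⁻¹ := by group
    rw [h1]
    exact mul_mem (mul_mem (hsq' _) (inv_mem hk)) (inv_mem (hsq' _))⟩
  have hq : ∀ q : H ⧸ K.subgroupOf H, q * q = 1 := by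
    intro q
    induction q using QuotientGroup.induction_on with
    | H x => exact (QuotientGroup.eq_one_iff _).2 (hsq' x)
  have hc : ∀ q r : H ⧸ K.subgroupOf H, q * r = r * q := fun q r => by
    calc q * r = (q * r)⁻¹ := eq_inv_of_mul_eq_one_left (hq _)
      _ = r⁻¹ * q⁻¹ := mul_inv_rev _ _
      _ = r * q := by rw [← eq_inv_of_mul_eq_one_left (hq r), ← eq_inv_of_mul_eq_one_left (hq q)]
  have hA := h H (K.subgroupOf H) ⊤ ⟨⟨fun q r => Subtype.ext (hc q r)⟩⟩
    (fun q _ => by rw [pow_two]; exact hq q)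
  rw [Nat.card_congr Subgroup.topEquiv.toEquiv, ← Subgroup.index_eq_card] at hA
  change K.relIndex H ≤ 2 ^ 4 at hA
  rw [hidx] at hA
  omega

/-- A finite set containing one and closed under products is a subgroup. -/
def ofMulClosed {G : Type*} [Group G] [Finite G] (s : Set G) (h1 : (1 : G) ∈ s)
    (hm : ∀ x ∈ s, ∀ y ∈ s, x * y ∈ s) : Subgroup G where
  carrier := s
  one_mem' := h1
  mul_mem' hx hy := hm _ hx _ hy
  inv_mem' {x} hx := by
    have hp : ∀ n : ℕ, x ^ n ∈ s := fun n => by
      induction n with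
      | zero => rwa [pow_zero]
      | succ n ih => rw [pow_succ]; exact hm _ ih _ hx
    have h : x⁻¹ = x ^ (orderOf x - 1) := inv_eq_of_mul_eq_one_right (by
      rw [← pow_succ', Nat.sub_add_cancel (orderOf_pos x), pow_orderOf_eq_one])
    exact h.symm ▸ hp _

theorem mem_ofMulClosed {G : Type*} [Group G] [Finite G] {s : Set G} {h1 : (1 : G) ∈ s}
    {hm : ∀ x ∈ s, ∀ y ∈ s, x * y ∈ s} {x : G} : x ∈ ofMulClosed s h1 hm ↔ x ∈ s := Iff.rfl

variable {S : Type*} [Group S] [Finite S]

/-- The centre of `P`, as a subgroup of `S`. -/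
def centerIn (P : Subgroup S) : Subgroup S := (Subgroup.center P).map P.subtype

/-- Conjugation of `P` by its normalizer. -/
def conjN' (P : Subgroup S) : normalizer (P : Set S) →* MulAut P where
  toFun g :=
    { toFun := fun x => ⟨g * x * (g : S)⁻¹, (mem_normalizer_iff.1 g.2 x).1 x.2⟩
      invFun := fun x => ⟨(g : S)⁻¹ * x * g, by
        rw [mem_normalizer_iff.1 g.2]; simpa [mul_assoc] using x.2⟩
      left_inv := fun x => Subtype.ext (by simp [mul_assoc])
      right_inv := fun x => Subtype.ext (by simp [mul_assoc])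
      map_mul' := fun x y => Subtype.ext (by simp [mul_assoc]) }
  map_one' := MulEquiv.ext fun x => Subtype.ext (by simp)
  map_mul' g h := MulEquiv.ext fun x => Subtype.ext (by simp [mul_assoc])

theorem conjN'_apply (P : Subgroup S) (g : normalizer (P : Set S)) (x : P) :
    ((conjN' P g x : P) : S) = g * x * (g : S)⁻¹ := rfl

theorem mem_ker_conjN' {P : Subgroup S} {g : normalizer (P : Set S)} :
    g ∈ (conjN' P).ker ↔ (g : S) ∈ centralizer (P : Set S) := by
  rw [MonoidHom.mem_ker, mem_centralizer_iff]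
  constructor
  · intro h x hx
    have := congrArg Subtype.val (DFunLike.congr_fun h ⟨x, hx⟩)
    rw [conjN'_apply] at this
    simp only [MulAut.one_apply] at this
    conv_lhs => rw [← this]
    group
  · intro h
    refine MulEquiv.ext fun x => Subtype.ext ?_
    rw [conjN'_apply, MulAut.one_apply, ← h x x.2, mul_inv_cancel_right]

variable {P : Subgroup S} {c : P → Nat} (hc : Coding c) {a b t : P} (hg : Gens c a b t)

include hc hg in
theorem center_code {x : P} (hx : x ∈ center P) : c x = 0 ∨ c x = 18 := by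
  have h := of_range center_chk (hc.lt x)
  have e : ∀ y : P, mulN (c x) (c y) = mulN (c y) (c x) := fun y => by
    rw [← hc.mul, ← hc.mul, mem_center_iff.1 hx y]
  have ea := e a
  have eb := e b
  have et := e t
  rw [hg.ca] at ea
  rw [hg.cb] at eb
  rw [hg.ct] at et
  simpa [ea, eb, et] using h

include hc in
theorem mem_center_of_code {x : P} (hx : c x = 18) : x ∈ center P := by
  rw [mem_center_iff]
  intro y
  refine hc.inj ?_
  rw [hc.mul, hc.mul, hx]
  have hchk : ((List.range 128).all fun n => mulN n 18 == mulN 18 n) = true := by decide +kernel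
  exact beq_iff_eq.1 (of_range hchk (hc.lt y))

include hc hg in
theorem card_centerIn : Nat.card (centerIn P) = 2 := by
  classical
  haveI := hc.finite
  rw [centerIn, Subgroup.card_map_of_injective P.subtype_injective]
  obtain ⟨z, hz⟩ := hc.surj 18 (by omega)
  have hset : (center P : Set P) = {1, z} := by
    ext x
    simp only [SetLike.mem_coe, Set.mem_insert_iff, Set.mem_singleton_iff]
    constructor
    · intro hx
      rcases center_code hc hg hx with h | h
      · exact Or.inl (hc.inj (h.trans hc.one.symm))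
      · exact Or.inr (hc.inj (h.trans hz.symm))
    · rintro (rfl | rfl)
      · exact one_mem _
      · exact mem_center_of_code hc hz
  have hne : (1 : P) ≠ z := fun h => by
    rw [← h, hc.one] at hz
    omega
  show Nat.card ↥(center P : Set P) = 2
  rw [Nat.card_coe_set_eq, hset, Set.ncard_pair hne]

include hc hg in
/-- `P` contains its centralizer. -/
theorem centralizer_eq (hr : Cfsg.SectionalPRankLE 2 4 S) (h2 : IsPGroup 2 S) :
    centralizer (P : Set S) = centerIn P := by
  classical
  haveI := hc.finite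
  have hsub : centerIn P ≤ centralizer (P : Set S) := by
    rintro _ ⟨x, hx, rfl⟩
    rw [mem_centralizer_iff]
    exact fun y hy => congrArg Subtype.val (mem_center_iff.1 hx ⟨y, hy⟩)
  refine le_antisymm (fun c₀ hc₀ => ?_) hsub
  by_contra hc₀Z
  have hex : ∃ k, c₀ ^ 2 ^ k ∈ centerIn P := by
    obtain ⟨k, hk⟩ := h2 c₀
    exact ⟨k, by rw [hk]; exact one_mem _⟩
  have hk0 : Nat.find hex ≠ 0 := fun h => hc₀Z (by
    have := Nat.find_spec hex
    rwa [h, pow_zero, pow_one] at this)
  obtain ⟨k, hk⟩ := Nat.exists_eq_succ_of_ne_zero hk0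
  set d := c₀ ^ 2 ^ k with hd
  have hdC : d ∈ centralizer (P : Set S) := pow_mem hc₀ _
  have hdZ : d ∉ centerIn P := Nat.find_min hex (by omega)
  have hd2 : d * d ∈ centerIn P := by
    have := Nat.find_spec hex
    rw [hk, pow_succ, pow_mul, pow_two] at this
    exact this
  have hdP : d ∉ P := fun h => hdZ ⟨⟨d, h⟩, mem_center_iff.2 fun y => Subtype.ext
    (mem_centralizer_iff.1 hdC y y.2), rfl⟩
  obtain ⟨z, hzc, hzd⟩ := hd2
  simp only [Subgroup.coe_subtype] at hzd
  have hz64 : c z < 64 := by rcases center_code hc hg hzc with h | h <;> omega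
  have hcomm : ∀ x : P, d * x = (x : S) * d := fun x => (mem_centralizer_iff.1 hdC x x.2).symm
  have hbase : ∀ x < 64, (∀ y < 64, mulN x y < 64) ∧ [0, 2, 16, 18].contains (mulN x x) = true := by
    intro x hx
    have h := of_range base_chk hx
    simp only [Bool.and_eq_true, List.all_eq_true, List.mem_range, decide_eq_true_eq] at h
    exact ⟨h.2, h.1⟩
  have hB : ∀ x y : P, c x < 64 → c y < 64 → c (x * y) < 64 := fun x y hx hy => by
    rw [hc.mul]; exact (hbase _ hx).1 _ hy
  have h164 : c (1 : P) < 64 := by rw [hc.one]; omega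
  let B : Subgroup S := ofMulClosed {s | ∃ x : P, c x < 64 ∧ (s = x ∨ s = x * d)}
    ⟨1, h164, Or.inl rfl⟩ (by
    rintro u ⟨x, hx, rfl | rfl⟩ v ⟨y, hy, rfl | rfl⟩
    · exact ⟨x * y, hB x y hx hy, Or.inl rfl⟩
    · exact ⟨x * y, hB x y hx hy, Or.inr (by rw [Subgroup.coe_mul, mul_assoc])⟩
    · exact ⟨x * y, hB x y hx hy, Or.inr (by
        rw [Subgroup.coe_mul, mul_assoc, hcomm y, mul_assoc])⟩
    · refine ⟨x * y * z, hB _ _ (hB x y hx hy) hz64, Or.inl ?_⟩
      rw [Subgroup.coe_mul, Subgroup.coe_mul, hzd, mul_assoc (x : S), ← mul_assoc d, hcomm y,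
        mul_assoc (y : S), ← mul_assoc (x : S)])
  let K : Subgroup S := ofMulClosed {s | ∃ x : P, [0, 2, 16, 18].contains (c x) = true ∧ s = x}
    ⟨1, by rw [hc.one]; rfl, rfl⟩ (by
    rintro u ⟨x, hx, rfl⟩ v ⟨y, hy, rfl⟩
    refine ⟨x * y, ?_, rfl⟩
    rw [hc.mul]
    have h := base_sub_chk
    simp only [List.all_eq_true] at h
    exact h _ (List.contains_iff_mem.1 hx) _ (List.contains_iff_mem.1 hy))
  have hKB : K ≤ B := by
    rintro s ⟨x, hx, rfl⟩
    refine ⟨x, ?_, Or.inl rfl⟩
    have := List.contains_iff_mem.1 hx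
    simp only [List.mem_cons, List.not_mem_nil, or_false] at this
    omega
  have hsqB : ∀ x ∈ B, x * x ∈ K := by
    rintro s ⟨x, hx, rfl | rfl⟩
    · exact ⟨x * x, by rw [hc.mul]; exact (hbase _ hx).2, rfl⟩
    · have h1 : (x : S) * d * ((x : S) * d) = ((x * x : P) : S) * (z : S) := by
        rw [Subgroup.coe_mul, hzd, mul_assoc (x : S), ← mul_assoc d, hcomm x, mul_assoc (x : S),
          ← mul_assoc (x : S)]
      rw [h1]
      refine mul_mem ⟨x * x, by rw [hc.mul]; exact (hbase _ hx).2, rfl⟩ ⟨z, ?_, rfl⟩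
      rcases center_code hc hg hzc with h | h <;> rw [h] <;> rfl
  -- cardinalities
  let el : Nat → P := fun n => if h : ∃ x, c x = n then h.choose else 1
  have hel : ∀ n < 128, c (el n) = n := fun n hn => by
    simp only [el, dif_pos (hc.surj n hn)]
    exact (hc.surj n hn).choose_spec
  have hBcard : Nat.card B = 128 := by
    let F : Fin 64 × Bool → B := fun p =>
      ⟨(el p.1 : S) * (if p.2 then d else 1), el p.1, by
        rw [hel _ (by have := p.1.2; omega)]
        exact ⟨p.1.2, by cases p.2 <;> simp⟩⟩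
    have hF : Function.Bijective F := by
      constructor
      · rintro ⟨i, u⟩ ⟨j, v⟩ h
        have h' : (el i : S) * (if u then d else 1) = el j * (if v then d else 1) :=
          congrArg Subtype.val h
        have hij : ∀ i j : Fin 64, el i = el j → i = j := fun i j h => Fin.ext (by
          rw [← hel i (by omega), ← hel j (by omega), h])
        cases u <;> cases v <;> simp only [mul_one, if_true, if_false, Bool.false_eq_true] at h'
        · rw [hij i j (Subtype.ext h')]
        · refine absurd ?_ hdP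
          rw [← inv_mul_eq_iff_eq_mul.2 h']
          exact mul_mem (inv_mem (el j).2) (el i).2
        · refine absurd ?_ hdP
          rw [← inv_mul_eq_iff_eq_mul.2 h'.symm]
          exact mul_mem (inv_mem (el i).2) (el j).2
        · rw [hij i j (Subtype.ext (mul_right_cancel h'))]
      · rintro ⟨s, x, hx, hs⟩
        have hxe : el (c x) = x := hc.inj (hel _ (hc.lt x))
        rcases hs with rfl | rfl
        · exact ⟨(⟨c x, hx⟩, false), Subtype.ext (by simp [F, hxe])⟩
        · exact ⟨(⟨c x, hx⟩, true), Subtype.ext (by simp [F, hxe])⟩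
    rw [← Nat.card_eq_of_bijective F hF, Nat.card_eq_fintype_card, Fintype.card_prod,
      Fintype.card_fin, Fintype.card_bool]
  have hKcard : Nat.card K = 4 := by
    have hset : (K : Set S) = (fun n => (el n : S)) '' (↑[0, 2, 16, 18].toFinset : Set Nat) := by
      ext s
      simp only [List.coe_toFinset, Set.mem_image, Set.mem_setOf_eq]
      constructor
      · rintro ⟨x, hx, rfl⟩
        exact ⟨c x, List.contains_iff_mem.1 hx, by rw [hc.inj (hel _ (hc.lt x))]⟩
      · rintro ⟨n, hn, rfl⟩
        refine ⟨el n, ?_, rfl⟩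
        rw [hel n (by fin_cases hn <;> omega)]
        exact List.contains_iff_mem.2 hn
    show Nat.card ↥(K : Set S) = 4
    rw [Nat.card_coe_set_eq, hset, Set.InjOn.ncard_image, Set.ncard_coe_finset]
    · rfl
    · intro i hi j hj h
      simp only [List.coe_toFinset, Set.mem_setOf_eq] at hi hj
      rw [← hel i (by fin_cases hi <;> omega), ← hel j (by fin_cases hj <;> omega),
        Subtype.ext h]
  refine rank_five hr hKB hsqB ?_
  have h := (K.subgroupOf B).card_mul_index
  rw [Nat.card_congr (Subgroup.subgroupOfEquivOfLe hKB).toEquiv, hKcard, hBcard] at h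
  show (K.subgroupOf B).index = 32
  omega

/-- The automorphisms of class `i` induced by the normalizer. -/
def Has (P : Subgroup S) (c : P → Nat) (a b t : P) (f : Trip) : Prop :=
  ∃ φ ∈ (conjN' P).range, trip c a b t φ = f

theorem conj_mem_range (h : P) : MulAut.conj h ∈ (conjN' P).range :=
  ⟨⟨h, le_normalizer h.2⟩, MulEquiv.ext fun x => Subtype.ext rfl⟩

include hc hg in
theorem Has.comp' {f g : Trip} (hf : Has P c a b t f) (hg' : Has P c a b t g) :
    Has P c a b t (comp f g) := by
  obtain ⟨φ, hφ, rfl⟩ := hf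
  obtain ⟨ψ, hψ, rfl⟩ := hg'
  exact ⟨φ * ψ, mul_mem hφ hψ, trip_mul hc hg φ ψ⟩

include hc hg in
theorem has_one : Has P c a b t oneT := ⟨1, one_mem _, trip_one hc hg⟩

include hc hg in
theorem has_inn {n : Nat} (hn : n < 128) : Has P c a b t (innN n) := by
  obtain ⟨x, rfl⟩ := hc.surj n hn
  exact ⟨_, conj_mem_range x, trip_conj hc hg x⟩

include hc hg in
theorem has_isoT {r : Trip} (hr : Has P c a b t r) {e : Nat × Bool} (he : e.1 < 128) :
    Has P c a b t (isoT r e) := by
  refine (has_inn hc hg he).comp' hc hg ?_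
  cases e.2
  · exact has_one hc hg
  · exact hr

include hc hg in
/-- The bad classes do not occur. -/
theorem not_has_of_witness (hr : Cfsg.SectionalPRankLE 2 4 S) {r : Trip}
    {l : List (Nat × Bool)} (hl : witnessOk r l = true) (hh : Has P c a b t r) : False := by
  classical
  haveI := hc.finite
  simp only [witnessOk, Bool.and_eq_true, beq_iff_eq, List.all_eq_true, List.any_eq_true,
    decide_eq_true_eq, teq_iff] at hl
  obtain ⟨⟨⟨hlen, hlt⟩, hsq⟩, hnd⟩ := hl
  set L := l.map (isoT r) with hL
  have hLne : L ≠ [] := by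
    intro h
    have := congrArg List.length h
    rw [hL, List.length_map, hlen] at this
    simp at this
  let s : Set (MulAut P) := {φ | trip c a b t φ ∈ L}
  have h1 : (1 : MulAut P) ∈ s := by
    obtain ⟨f, hf⟩ := List.exists_mem_of_ne_nil L hLne
    obtain ⟨hff, hcl⟩ := hsq f hf
    obtain ⟨h, hh', he⟩ := hcl f hf
    show trip c a b t 1 ∈ L
    rwa [trip_one hc hg, ← hff, ← he]
  let H₀ : Subgroup (MulAut P) := ofMulClosed s h1 (fun φ hφ ψ hψ => by
    obtain ⟨h, hh', he⟩ := (hsq _ hφ).2 _ hψ
    show trip c a b t (φ * ψ) ∈ L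
    rwa [trip_mul hc hg, ← he])
  have hcard : Nat.card H₀ = 32 := by
    have hbij : Set.BijOn (trip c a b t) s (↑L.toFinset : Set Trip) := by
      refine ⟨fun φ hφ => Finset.mem_coe.2 (List.mem_toFinset.2 hφ), fun φ _ ψ _ h => trip_injective hc hg h,
        fun f hf => ?_⟩
      have hf' : f ∈ L := by simpa using hf
      obtain ⟨e, he, rfl⟩ := List.mem_map.1 hf'
      obtain ⟨φ, -, hφ⟩ := has_isoT hc hg hh (hlt e he)
      exact ⟨φ, show trip c a b t φ ∈ L from hφ.symm ▸ hf', hφ⟩
    show Nat.card s = 32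
    rw [Nat.card_congr hbij.equiv, Nat.card_coe_set_eq, Set.ncard_coe_finset,
      List.toFinset_card_of_nodup hnd, hL, List.length_map, hlen]
  have hle : H₀ ≤ (conjN' P).range := by
    intro φ hφ
    obtain ⟨e, he, he'⟩ := List.mem_map.1 (show trip c a b t φ ∈ L from hφ)
    obtain ⟨ψ, hψ, hψ'⟩ := has_isoT hc hg hh (hlt e he)
    rwa [← trip_injective hc hg (hψ'.trans he')]
  set N := normalizer (P : Set S)
  refine rank_five hr (H := (H₀.comap (conjN' P)).map N.subtype)
    (K := (conjN' P).ker.map N.subtype)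
    (Subgroup.map_mono fun g hg' => by
      rw [Subgroup.mem_comap, MonoidHom.mem_ker.1 hg']; exact one_mem _) ?_ ?_
  · rintro _ ⟨g, hg', rfl⟩
    refine ⟨g * g, ?_, map_mul _ _ _⟩
    rw [SetLike.mem_coe, MonoidHom.mem_ker, map_mul]
    refine trip_injective hc hg ?_
    rw [trip_mul hc hg, trip_one hc hg]
    exact (hsq _ hg').1
  · rw [Subgroup.relIndex_map_map_of_injective _ _ N.subtype_injective, ← MonoidHom.comap_bot,
      Subgroup.relIndex_comap, Subgroup.map_comap_eq_self hle, Subgroup.relIndex_bot_left, hcard]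

include hc hg in
theorem not_has_two (hr : Cfsg.SectionalPRankLE 2 4 S) : ¬ Has P c a b t (rep 2) :=
  not_has_of_witness hc hg hr witness2_chk

include hc hg in
/-- Each induced automorphism is inner or of one good class. -/
theorem class_cases (hr : Cfsg.SectionalPRankLE 2 4 S) {φ : MulAut P}
    (hφ : φ ∈ (conjN' P).range) :
    (∃ h : P, φ = MulAut.conj h) ∨ ∃ i ∈ [1, 3], Has P c a b t (rep i) ∧
      ∃ n < 128, trip c a b t φ = comp (innN n) (rep i) := by
  obtain ⟨g, i, hg128, hi, he⟩ := exists_class hc hg φ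
  obtain ⟨x, rfl⟩ := hc.surj g hg128
  have hmul : trip c a b t (MulAut.conj x * φ) = rep i := by
    rw [trip_mul hc hg, trip_conj hc hg, he]
  have hHas : Has P c a b t (rep i) := ⟨_, mul_mem (conj_mem_range x) hφ, hmul⟩
  have hback : trip c a b t φ = comp (innN (c x⁻¹)) (rep i) := by
    rw [← hmul, ← trip_conj hc hg, ← trip_mul hc hg, map_inv, inv_mul_cancel_left]
  have hcyc := cyc_chk
  simp only [Bool.and_eq_true, teq_iff] at hcyc
  have hsquare : ∀ j, comp (innN 9) (comp (rep j) (rep j)) = rep 2 → ¬ Has P c a b t (rep j) :=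
    fun j h hj => not_has_two hc hg hr (h ▸ (has_inn hc hg (by omega)).comp' hc hg (hj.comp' hc hg hj))
  interval_cases i
  · refine Or.inl ⟨x⁻¹, ?_⟩
    rw [map_inv]
    exact eq_inv_of_mul_eq_one_right (trip_injective hc hg (hmul.trans (trip_one hc hg).symm))
  · exact Or.inr ⟨1, by simp, hHas, _, hc.lt _, hback⟩
  · exact absurd hHas (not_has_two hc hg hr)
  · exact Or.inr ⟨3, by simp, hHas, _, hc.lt _, hback⟩
  · exact absurd hHas fun h => not_has_of_witness hc hg hr witness4_chk h
  · exact absurd hHas fun h => not_has_of_witness hc hg hr witness5_chk h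
  · exact absurd hHas (hsquare 6 hcyc.1.1)
  · exact absurd hHas (hsquare 7 hcyc.1.2)

include hc hg in
theorem exists_outside (h2 : IsPGroup 2 S) {M : Subgroup S} (hPM : P < M) :
    ∃ g : normalizer (P : Set S), (g : S) ∈ M ∧ (g : S) ∉ P := by
  haveI := (h2.to_subgroup M).isNilpotent
  have hlt : P.subgroupOf M < ⊤ := lt_top_iff_ne_top.2 fun h =>
    hPM.not_ge (Subgroup.subgroupOf_eq_top.1 h)
  obtain ⟨g, hg', hgP⟩ := SetLike.exists_of_lt (Group.normalizerCondition_of_isNilpotent _ hlt)
  have hgN : (g : S) ∈ normalizer (P : Set S) := by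
    rw [mem_normalizer_iff] at hg' ⊢
    intro x
    constructor
    · intro hx
      exact (hg' ⟨x, hPM.le hx⟩).1 hx
    · intro hx
      have hxM : x ∈ M := by
        have := mul_mem (mul_mem (inv_mem g.2) (hPM.le hx)) g.2
        simpa [mul_assoc] using this
      exact (hg' ⟨x, hxM⟩).2 hx
  exact ⟨⟨g, hgN⟩, g.2, hgP⟩

include hc hg in
theorem not_inner_of_notMem (hr : Cfsg.SectionalPRankLE 2 4 S) (h2 : IsPGroup 2 S)
    {g : normalizer (P : Set S)} (hgP : (g : S) ∉ P) (h : P) : conjN' P g ≠ MulAut.conj h := by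
  intro he
  apply hgP
  set hh : normalizer (P : Set S) := ⟨h, le_normalizer h.2⟩
  have hk : hh⁻¹ * g ∈ (conjN' P).ker := by
    rw [MonoidHom.mem_ker, map_mul, map_inv, he, inv_mul_eq_one]
    exact MulEquiv.ext fun x => Subtype.ext rfl
  rw [mem_ker_conjN', centralizer_eq hc hg hr h2] at hk
  have hkP : (h : S)⁻¹ * g ∈ P := Subgroup.map_subtype_le _ hk
  simpa using mul_mem h.2 hkP

end Cfsg.Lib.TwoGrp.D8W
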